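import Mathlib
import Cfsg.Agent.Base
import Cfsg.Agent.Lib.Odd42.Dat

/-! The block configuration cannot occur. -/

set_option autoImplicit false
set_option linter.unusedSectionVars false
set_option linter.style.haveILetI false

namespace H42.OF

open Subgroup H69 H68.Push H59.MP H68B Cfsg
open scoped commutatorElement

universe u

local notation "𝐁(" T ")" => baumannSubgroupOf 2 T
local notation "𝐉(" T ")" => thompsonSubgroupOf 2 T
local notation "𝐕(" T ")" => omegaOneCenter 2 T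

variable {G : Type u} [Group G] [Finite G]

namespace Cf

variable {S B Q V : Subgroup G} {z u e θ : G}

theorem uz (h : Cf B Q V z u e θ) : u * z = z * u := h.cz u (h.QB h.uQ)

theorem tuz (h : Cf B Q V z u e θ) : θ * (u * z) * θ⁻¹ = z := by
  rw [← conj_mul, h.tu, h.tz, h.uz, mul_assoc, h.uu, mul_one]

theorem nce (h : Cf B Q V z u e θ) : ¬ Commute e u := fun e1 => h.z1 (by
  have := h.eu
  rwa [e1.eq, mul_inv_cancel_right, left_eq_mul] at this)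

theorem nce' (h : Cf B Q V z u e θ) {d : G} (hd : e * d = d * e) : ¬ Commute e (u * d) :=
  fun e1 => h.nce (by simpa using e1.mul_right (Commute.inv_right hd))

theorem ez (h : Cf B Q V z u e θ) : Commute e z := h.cz e h.eB

theorem tN (h : Cf B Q V z u e θ) : θ ∈ 𝐍(Q) := H24.mem_normalizer_of_conj_mem fun _ => h.tQ

theorem eact (h : Cf B Q V z u e θ) {q : G} (hq : q ∈ Q) :
    e * q * e⁻¹ = q ∨ e * q * e⁻¹ = z * q := by
  obtain ⟨d, -, e1, -, e2⟩ := h.dec q hq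
  have e3 : e * d * e⁻¹ = d := mul_inv_eq_iff_eq_mul.2 e1
  have e4 : e * z * e⁻¹ = z := mul_inv_eq_iff_eq_mul.2 h.ez
  rcases e2 with e2 | e2 | e2 | e2 <;> rw [e2]
  · exact .inl e3
  · left; rw [← conj_mul, e3, e4]
  · right; rw [← conj_mul, e3, h.eu, h.uz, mul_assoc]
  · right; rw [← conj_mul, ← conj_mul, e3, e4, h.eu, ← mul_assoc, ← mul_assoc, ← h.uz]

theorem normQ (h : Cf B Q V z u e θ) : B ≤ 𝐍(Q) := fun b hb => by
  have h1 : e ∈ 𝐍(Q) := H24.mem_normalizer_of_conj_mem fun q hq => by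
    rcases h.eact hq with e1 | e1 <;> rw [e1]
    exacts [hq, mul_mem h.zQ hq]
  rcases h.two b hb with e1 | e1
  exacts [le_normalizer e1, (mul_mem_cancel_left (inv_mem h1)).1 (le_normalizer e1)]

theorem act (h : Cf B Q V z u e θ) {b y : G} (hb : b ∈ B) (hy : y ∈ Q ⊓ 𝐂(Q)) :
    b * y * b⁻¹ = y ∨ b * y * b⁻¹ = z * y := by
  rcases h.two b hb with e1 | e1
  · exact .inl (mul_inv_eq_iff_eq_mul.2 (hy.2 b e1))
  · have : b * y * b⁻¹ = e * (e⁻¹ * b * y * (e⁻¹ * b)⁻¹) * e⁻¹ := by group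
    rw [this, mul_inv_eq_iff_eq_mul.2 (hy.2 _ e1)]
    exact h.eact hy.1

theorem le_of_comm (h : Cf B Q V z u e θ) {y : G} (hy : y ∈ 𝐂(Q)) (he : Commute e y) :
    B ≤ centralizer {y} := fun b hb => by
  rcases h.two b hb with e1 | e1
  exacts [mem_cs.2 (hy b e1), (mul_mem_cancel_left (inv_mem (mem_cs.2 he))).1 (mem_cs.2 (hy _ e1))]

theorem mem_Q (h : Cf B Q V z u e θ) {b : G} (hb : b ∈ B) (hu : Commute b u) : b ∈ Q :=
  (h.two b hb).resolve_right fun e1 => h.nce (by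
    simpa using (hu.mul_left (Commute.inv_left (h.cu _ e1))))

theorem zZ (h : Cf B Q V z u e θ) : z ∈ Q ⊓ 𝐂(Q) := ⟨h.zQ, fun q hq => h.cz q (h.QB hq)⟩

theorem cjZ {n y : G} (hn : n ∈ 𝐍(Q)) (hy : y ∈ Q ⊓ 𝐂(Q)) : n * y * n⁻¹ ∈ Q ⊓ 𝐂(Q) :=
  conj_mem_of_mem_normalizer (le_normalizer_inf le_rfl (normalizer_le_normalizer_centralizer Q) hn) hy

theorem fixz (h : Cf B Q V z u e θ) {n : G} (h1 : n ∈ 𝐍(B)) (h2 : n ∈ 𝐍(Q)) :
    n * z * n⁻¹ = z := by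
  have h3 := h.act (conj_mem_of_mem_normalizer h1 h.eB) (cjZ h2 ⟨h.uQ, h.cu⟩)
  rw [conj_inv, conj_mul, conj_mul, h.eu, h.uz, ← conj_mul, mul_eq_right, conj_eq_one_iff,
    mul_left_inj] at h3
  exact h3.resolve_left h.z1

theorem t0 (n : NP G) (mx : Mx B) (hB : 𝐁(B) = B) (hS : IsSylowIn 2 S ⊤) (BS : B ≤ S)
    (h : Cf B Q 𝐕(S) z u e θ) {x : G} (hx : x ∈ 𝐍(Q)) (he : Commute e (x * z * x⁻¹)) :
    x * z * x⁻¹ = z := by
  have hb := hS.isP.to_le BS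
  obtain ⟨T, hT, t1⟩ := exists_isSylowIn_le hb (le_inf h.normQ (h.le_of_comm (cjZ hx h.zZ).2 he))
  obtain ⟨c, hc, t2⟩ := hT.exists_cj_le (isPGroup_cj hb x) (le_inf (cj_le_of_mem h.normQ hx) (by
    rw [← cj_centralizer_singleton]
    exact cj_mono x fun b hb => mem_cs.2 (h.cz b hb)))
  have e1 := (mx.bau_eq' n hS (h.VQ.trans h.QB) BS h.VQ (fun e => h.nV (e h.tN)) hT.isP t1
    (h.QB.trans t1) (hT.le.trans inf_le_left)).trans hB
  rw [cj_cj, ← e1] at t2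
  have e2 := h.fixz (e1 ▸ cj_eq_self_iff.1 (bau_cj_eq t2)) (mul_mem hc.1 hx)
  calc x * z * x⁻¹ = c * (x * z * x⁻¹) * c⁻¹ := (mul_inv_eq_iff_eq_mul.2 (mem_cs.1 hc.2).eq).symm
    _ = c * x * z * (c * x)⁻¹ := by group
    _ = z := e2

theorem orbit (n : NP G) (mx : Mx B) (hB : 𝐁(B) = B) (hS : IsSylowIn 2 S ⊤) (BS : B ≤ S)
    (h : Cf B Q 𝐕(S) z u e θ) {x : G} (hx : x ∈ 𝐍(Q)) :
    x * z * x⁻¹ = z ∨ x * z * x⁻¹ = u ∨ x * z * x⁻¹ = u * z := by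
  obtain ⟨d, -, e1, e2, e3⟩ := h.dec _ (cjZ hx h.zZ).1
  have e4 : θ * d * θ⁻¹ = d := mul_inv_eq_iff_eq_mul.2 e2
  have e5 : Commute e (z * d) := h.ez.mul_right e1
  rcases e3 with e3 | e3 | e3 | e3
  · exact .inl (h.t0 n mx hB hS BS hx (e3 ▸ e1))
  · exact .inl (h.t0 n mx hB hS BS hx (e3 ▸ e5))
  · have e6 : θ⁻¹ * x * z * (θ⁻¹ * x)⁻¹ = θ⁻¹ * (x * z * x⁻¹) * θ := by group
    have := h.t0 n mx hB hS BS (mul_mem (inv_mem h.tN) hx) (by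
      rw [e6, e3, ← h.tz, ← e4, conj_mul]; simpa [mul_assoc] using e5)
    rw [e6] at this
    right; left
    rw [← h.tz]
    conv_rhs => rw [← this]
    group
  · have e6 : θ * x * z * (θ * x)⁻¹ = θ * (x * z * x⁻¹) * θ⁻¹ := by group
    have := h.t0 n mx hB hS BS (mul_mem h.tN hx) (by rwa [e6, e3, ← conj_mul, h.tuz, e4])
    rw [e6] at this
    exact .inr (.inr (conj_injective (this.trans h.tuz.symm)))

theorem tF (h : Cf B Q V z u e θ) {q : G} (hq : q ∈ Q) :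
    θ * q * θ⁻¹ * q⁻¹ ∈ zpowers u ⊔ zpowers z := by
  obtain ⟨d, -, -, e1, e2⟩ := h.dec q hq
  have u1 : u ∈ zpowers u ⊔ zpowers z := mem_sup_left (mem_zpowers u)
  have z1 : z ∈ zpowers u ⊔ zpowers z := mem_sup_right (mem_zpowers z)
  have e3 : ∀ f, θ * (f * d) * θ⁻¹ * (f * d)⁻¹ = θ * f * θ⁻¹ * f⁻¹ := fun f => by
    rw [← conj_mul, mul_inv_eq_iff_eq_mul.2 e1]; group
  rcases e2 with e2 | e2 | e2 | e2 <;> rw [e2]
  · rw [mul_inv_eq_iff_eq_mul.2 e1, mul_inv_cancel]; exact one_mem _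
  · rw [e3, h.tz]; exact mul_mem u1 (inv_mem z1)
  · rw [e3, h.tu]; exact mul_mem (mul_mem u1 z1) (inv_mem u1)
  · rw [e3, h.tuz]; exact mul_mem z1 (inv_mem (mul_mem u1 z1))

theorem oc_Q (h : Cf B Q V z u e θ) {y : G} (hy : y ∈ 𝐕(B)) : y ∈ Q :=
  h.mem_Q (oc_le B hy) (oc_le_cent B hy u (h.QB h.uQ)).symm

theorem oc_dec (h : Cf B Q V z u e θ) {y : G} (hy : y ∈ 𝐕(B)) :
    ∃ d ∈ 𝐕(B), e * d = d * e ∧ θ * d * θ⁻¹ = d ∧ (y = d ∨ y = z * d) := by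
  obtain ⟨d, -, e1, e2, e3⟩ := h.dec y (h.oc_Q hy)
  have e4 : Commute e y := oc_le_cent B hy e h.eB
  have e5 := mul_inv_eq_iff_eq_mul.2 e2
  rcases e3 with e3 | e3 | e3 | e3
  · exact ⟨d, e3 ▸ hy, e1, e5, .inl e3⟩
  · exact ⟨d, (mul_mem_cancel_left (H24.mem_omegaOne (show z ∈ B ⊓ 𝐂(B) from ⟨h.QB h.zQ, h.cz⟩)
      ((pow_two z).trans h.zz))).1 (e3 ▸ hy), e1, e5, .inr e3⟩
  · exact (h.nce' e1 (e3 ▸ e4)).elim
  · rw [e3, mul_assoc] at e4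
    exact (h.nce' (h.ez.mul_right e1) e4).elim

theorem oc_fix (h : Cf B Q V z u e θ) {y : G} (hy : y ∈ 𝐕(B)) (hy' : θ * y * θ⁻¹ ∈ 𝐕(B)) :
    θ * y * θ⁻¹ = y := by
  obtain ⟨d, -, e1, e2, e3 | e3⟩ := h.oc_dec hy <;> rw [e3] at hy' ⊢
  · exact e2
  · rw [← conj_mul, e2, h.tz] at hy'
    exact (h.nce' e1 (oc_le_cent B hy' e h.eB)).elim

end Cf

/-- an element acting trivially on `P / Q`, `Q / F` and moving `z` -/
theorem ne_comm {P Q F : Subgroup G} (hQ : IsPGroup 2 Q) (hF : F ≤ Q) (hF' : F ≤ 𝐂(P))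
    (hP : Q ≤ P) {τ z : G} (h1 : ∀ p ∈ P, p⁻¹ * (τ * p * τ⁻¹) ∈ Q)
    (h2 : ∀ q ∈ Q, τ * q * τ⁻¹ * q⁻¹ ∈ F) (h3 : Commute (τ ^ 3) z) (h4 : ¬ Commute τ z)
    {a b : G} (ha : a ∈ P) (hb : b ∈ P) : ⁅a, b⁆ ≠ z := fun e => by
  have k1 : ∀ p ∈ P, ∀ k : ℕ, ∃ f ∈ F, τ ^ k * p * (τ ^ k)⁻¹ =
      f * (p * (p⁻¹ * (τ * p * τ⁻¹)) ^ k) := fun p hp k => by
    have hx := h1 p hp
    set x := p⁻¹ * (τ * p * τ⁻¹) with hxd
    induction k with
    | zero => exact ⟨1, one_mem _, by simp⟩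
    | succ k ih =>
      obtain ⟨f, hf, e1⟩ := ih
      have e2 := h2 _ (pow_mem hx k)
      refine ⟨τ * f * τ⁻¹ * f⁻¹ * f * (τ * x ^ k * τ⁻¹ * (x ^ k)⁻¹),
        mul_mem (mul_mem (h2 f (hF hf)) hf) e2, ?_⟩
      have e3 := hF' e2 _ (mul_mem hp (hP hx))
      calc τ ^ (k + 1) * p * (τ ^ (k + 1))⁻¹ = τ * (τ ^ k * p * (τ ^ k)⁻¹) * τ⁻¹ := by group
        _ = τ * f * τ⁻¹ * (p * x * (τ * x ^ k * τ⁻¹ * (x ^ k)⁻¹)) * x ^ k := by
          rw [e1, hxd]; group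
        _ = _ := by rw [e3]; group
  obtain ⟨m, hm⟩ := isPGroup_iff_mem.1 hQ _ (h1 a ha)
  obtain ⟨n, hn⟩ := isPGroup_iff_mem.1 hQ _ (h1 b hb)
  obtain ⟨f, hf, e1⟩ := k1 a ha (2 ^ (2 * (m + n)))
  obtain ⟨g, hg, e2⟩ := k1 b hb (2 ^ (2 * (m + n)))
  rw [orderOf_dvd_iff_pow_eq_one.1 ((orderOf_dvd_of_pow_eq_one hm).trans
    (pow_dvd_pow 2 (by omega))), mul_one] at e1
  rw [orderOf_dvd_iff_pow_eq_one.1 ((orderOf_dvd_of_pow_eq_one hn).trans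
    (pow_dvd_pow 2 (by omega))), mul_one] at e2
  have e3 : Commute (τ ^ 2 ^ (2 * (m + n))) z := mul_inv_eq_iff_eq_mul.1 (by
    rw [← e, conjugate_commutatorElement, e1, e2]
    have c1 : Commute a f := hF' hf a ha
    have c2 : Commute b f := hF' hf b hb
    have c3 : Commute a g := hF' hg a ha
    have c4 : Commute b g := hF' hg b hb
    have c5 : Commute f g := hF' hg f (hP (hF hf))
    rw [commutatorElement_def, commutatorElement_def, mul_inv_rev, mul_inv_rev,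
      mul_assoc _ (a⁻¹ * f⁻¹), ← c1.eq, ← c4.eq]
    calc a * f * (b * g) * (a⁻¹ * f⁻¹ * (b⁻¹ * g⁻¹))
        = a * (f * (b * g * a⁻¹) * f⁻¹) * b⁻¹ * g⁻¹ := by group
      _ = a * b * (g * (a⁻¹ * b⁻¹) * g⁻¹) := by
        rw [mul_inv_eq_iff_eq_mul.2 ((c2.mul_left c5.symm).mul_left c1.inv_left).symm.eq,
          mul_assoc, mul_assoc, mul_assoc]; group
      _ = _ := by
        rw [mul_inv_eq_iff_eq_mul.2 (c3.inv_left.mul_left c4.inv_left).symm.eq]; group)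
  rw [← Nat.div_add_mod (2 ^ (2 * (m + n))) 3, pow_add, pow_mul τ,
    show 2 ^ (2 * (m + n)) % 3 = 1 by simp [pow_mul, Nat.pow_mod], pow_one] at e3
  have e4 := (h3.pow_left (2 ^ (2 * (m + n)) / 3)).inv_left.mul_left e3
  exact h4 (by rwa [inv_mul_cancel_left] at e4)

theorem Hy.false_of_bad {r : ℕ} (hy : Hy r G) (hr : r.Prime) (ho : Odd r)
    (cop : r.Coprime (Nat.card G)) {S C : Subgroup G} (b : Bad S C) : False := by
  have n := hy.np ho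
  obtain ⟨S₀, B, Q, z, u, e, θ, hS₀, mx, hB, BS₀, h, ps⟩ := hy.exists_cf ho cop b
  set F := zpowers u ⊔ zpowers z with hF
  have FZ : F ≤ Q ⊓ 𝐂(Q) := sup_le (zpowers_le.2 ⟨h.uQ, h.cu⟩) (zpowers_le.2 h.zZ)
  set U := F ⊔ 𝐕(S₀) with hU
  have UZ : U ≤ Q ⊓ 𝐂(Q) := sup_le FZ (le_inf h.VQ ((oc_le_cent _).trans
    (centralizer_anti (h.QB.trans BS₀))))
  have uU : u ∈ U := mem_sup_left (mem_sup_left (mem_zpowers u))
  have zU : z ∈ U := mem_sup_left (mem_sup_right (mem_zpowers z))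
  have tU : θ ∈ 𝐍(U) := H24.mem_normalizer_of_conj_mem fun x hx => by
    simpa using mul_mem (mem_sup_left (h.tF (UZ hx).1)) hx
  have BU : B ≤ 𝐍(U) := fun b hb => H24.mem_normalizer_of_conj_mem fun x hx => by
    rcases h.act hb (UZ hx) with e1 | e1 <;> rw [e1]
    exacts [hx, mul_mem zU hx]
  obtain ⟨T, hT, t1⟩ := exists_isSylowIn_le (hS₀.isP.to_le BS₀) BU
  obtain ⟨S, hS, t2⟩ := exists_isSylowIn_le hT.isP le_top
  have BS := t1.trans t2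
  have e0 := mx.alp n B S₀ S hS₀ hS BS₀ BS (h.VQ.trans h.QB)
  rw [e0] at h
  replace hU : U = F ⊔ 𝐕(S) := e0 ▸ hU
  clear_value U F
  set P := S ⊓ 𝐂(U) with hPd
  have hP : IsSylowIn 2 P 𝐂(U) := by
    have := hT.inf_normal (centralizer_le_normalizer _) (normalizer_le_normalizer_centralizer U)
    rwa [← this.max P (inf_le_inf_right _ t2) inf_le_right (hS.isP.to_le inf_le_left)] at this
  have QP : Q ≤ P := le_inf (h.QB.trans BS) (le_centralizer_comm.1 (UZ.trans inf_le_right))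
  have memP : ∀ x ∈ S, Commute x u → Commute x z → x ∈ P := fun x hx h1 h2 => by
    refine ⟨hx, ?_⟩
    rw [hU, hF, centralizer_sup, centralizer_sup, centralizer_zpowers, centralizer_zpowers]
    exact ⟨⟨mem_cs.2 h1, mem_cs.2 h2⟩, le_cent_oc S hx⟩
  obtain ⟨a, d⟩ := hy S hS
  obtain ⟨τ, hτ, ht⟩ : ∃ τ ∈ 𝐍(P), ∀ q ∈ Q, τ * q * τ⁻¹ = θ * q * θ⁻¹ := by
    obtain ⟨c, hc, τ, hτ, rfl⟩ := hP.frattini (normalizer_le_normalizer_centralizer U tU)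
    obtain ⟨m, hm, h1⟩ := d.hs 𝐕(S) (oc_le S) (fun e1 => h.nV (by rw [e1, normalizer_eq_top]; trivial))
      (le_normalizer_oc le_normalizer) (inv_oc d.inv) c
      (centralizer_le_normalizer _ (centralizer_anti (hU ▸ le_sup_right) hc))
    have h2 : m ∈ 𝐂(U) := fun x hx => by
      have h3 := conj_eq_of_mem_centralizer hc hx
      have h4 := (QP (UZ hx).1).1
      exact (mul_inv_eq_iff_eq_mul.1 ((h1 x h4 (h3.symm ▸ h4)).symm.trans h3)).symm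
    refine ⟨m * τ, mul_mem (le_normalizer_inf (inf_le_left (b := 𝐂(U)))
      (le_normalizer_of_le inf_le_right) ⟨hm, h2⟩) hτ, fun q hq => ?_⟩
    have h3 : ∀ x : G, x * τ * q * (x * τ)⁻¹ = x * (τ * q * τ⁻¹) * x⁻¹ := fun x => by group
    rw [h3, h3]
    exact (h1 _ (conj_mem_of_mem_normalizer hτ (QP hq)).1 (h3 c ▸ (QP (h.tQ hq)).1)).symm
  have e1 : 𝐁(S ⊓ 𝐍(P)) = B := (mx.bau_eq ⟨hS, h.VQ.trans QP, inf_le_left, fun e1 =>
    h.nV (H24.mem_normalizer_of_conj_mem fun v hv =>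
      ht v (h.VQ hv) ▸ conj_mem_of_mem_normalizer (e1 hτ) hv)⟩ (le_inf BS
      (le_normalizer_inf (le_normalizer_of_le BS) (le_normalizer_centralizer BU)))).trans hB
  have nB : S ⊓ 𝐍(P) ≤ 𝐍(B) := e1 ▸ le_normalizer_bau _
  have BP : B ⊓ P = Q := le_antisymm (fun x hx => h.mem_Q hx.1 (hx.2.2 u uU).symm) (le_inf h.QB QP)
  have nQ : S ⊓ 𝐍(P) ≤ 𝐍(Q) := BP ▸ le_normalizer_inf nB inf_le_right
  have PN : P ≤ S ⊓ 𝐍(P) := le_inf inf_le_left le_normalizer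
  have CP : S ⊓ centralizer {u} = P := by
    have h1 : P ≤ S ⊓ centralizer {u} := fun x hx => ⟨hx.1, mem_cs.2 (hx.2 u uU).symm⟩
    by_contra h2
    refine (lt_inf_normalizer_of_lt (hS.isP.to_le inf_le_left)
      (lt_of_le_of_ne h1 (Ne.symm h2))).not_ge fun x hx => memP x hx.1.1 (mem_cs.1 hx.1.2) ?_
    exact mul_inv_eq_iff_eq_mul.1 (h.fixz (nB ⟨hx.1.1, hx.2⟩) (nQ ⟨hx.1.1, hx.2⟩))
  have tz : τ * z * τ⁻¹ = u := (ht z h.zQ).trans h.tz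
  have uz : u ≠ z := fun e2 => h.nce (e2 ▸ h.ez)
  have nc : ∀ a ∈ P, ∀ b ∈ P, ⁅a, b⁆ ≠ z := fun a ha b hb => by
    refine ne_comm (τ := τ) (hP.isP.to_le QP) (FZ.trans inf_le_left) (le_centralizer_comm.1
      (inf_le_right.trans (centralizer_anti (hU ▸ le_sup_left)))) QP (fun p hp => ?_)
      (fun q hq => ht q hq ▸ hF ▸ h.tF hq) (mul_inv_eq_iff_eq_mul.1 ?_)
      (fun e2 => uz (by rw [← tz, e2.eq, mul_inv_cancel_right])) ha hb
    · have p1 := conj_mem_of_mem_normalizer hτ hp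
      have p2 := mul_mem (inv_mem hp) p1
      rw [← BP]
      refine ⟨?_, p2⟩
      rw [← e1, bau_def, ← oc_bau, e1]
      refine ⟨PN p2, fun y hy => ?_⟩
      obtain ⟨y, y1, -, y2, y3⟩ := h.oc_dec hy
      have y4 := conj_mem_of_mem_normalizer (le_normalizer_oc nB (PN hp)) y1
      have y5 : τ * (p * y * p⁻¹) * τ⁻¹ = τ * p * τ⁻¹ * y * (τ * p * τ⁻¹)⁻¹ := by
        conv_rhs => rw [← y2, ← ht y (h.oc_Q y1)]
        group
      have y6 := h.oc_fix y4 (by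
        rw [← ht _ (h.oc_Q y4), y5]
        exact conj_mem_of_mem_normalizer (le_normalizer_oc nB (PN p1)) y1)
      rw [← ht _ (h.oc_Q y4), y5] at y6
      have y7 : Commute y (p⁻¹ * (τ * p * τ⁻¹)) := by
        calc y * (p⁻¹ * (τ * p * τ⁻¹)) = p⁻¹ * (p * y * p⁻¹) * (τ * p * τ⁻¹) := by group
          _ = _ := by rw [← y6]; group
      rcases y3 with y3 | y3 <;> rw [y3]
      exacts [y7, Commute.mul_left (p2.2 z zU) y7]
    · calc τ ^ 3 * z * (τ ^ 3)⁻¹ = τ * (τ * (τ * z * τ⁻¹) * τ⁻¹) * τ⁻¹ := by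
            rw [pow_three]; group
        _ = z := by rw [tz, ht u h.uQ, h.tu, ht _ (mul_mem h.uQ h.zQ), h.tuz]
  obtain ⟨c, c1, c2⟩ := exists_res d.inv d.pow
  obtain ⟨s, hs, h1⟩ := ps S hS BS
  have uS := BS (h.QB h.uQ)
  have e2 : (centralizer {(⟨u, uS⟩ : S)}).map S.subtype = P := by
    rw [← centralizer_zpowers, map_subtype_centralizer, MonoidHom.map_zpowers, centralizer_zpowers]
    exact CP
  refine Tv.false (u := ⟨u, uS⟩) (z := ⟨z, BS (h.QB h.zQ)⟩) hS.isP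
    ⟨Subtype.ext h.uu, fun x hx => ?_, fun a b ha hb e3 => nc a (e2 ▸ ⟨a, mem_cs.2 ha, rfl⟩) b
      (e2 ▸ ⟨b, mem_cs.2 hb, rfl⟩) (congrArg Subtype.val e3)⟩ hr c1
    (fun x hx => Subtype.ext (d.fpf _ x.2 ((c2 x).symm.trans (congrArg _ hx)))) (s := ⟨s, hs⟩)
    fun e3 => h1 (congrArg Subtype.val e3)
  have h2 : (x : G) ∈ S ⊓ 𝐍(P) := by
    rw [← e2, ← map_subtype_normalizer]; exact ⟨x, hx, rfl⟩
  have h3 := h.orbit n mx hB hS BS (mul_mem (nQ h2) h.tN)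
  rw [show x * θ * z * (x * θ)⁻¹ = x * (θ * z * θ⁻¹) * (x : G)⁻¹ by group, h.tz] at h3
  exact (h3.resolve_left fun e3 => uz (conj_injective
    (e3.trans (h.fixz (nB h2) (nQ h2)).symm))).imp Subtype.ext Subtype.ext

end H42.OF
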