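import Mathlib
import Cfsg.Agent.Base
import Cfsg.Agent.Lib.Odd42.End
import Cfsg.Agent.Lib.Flavell.OddFix

/-! A group with a coprime automorphism of odd prime order whose fixed points have odd order is
solvable. -/

set_option autoImplicit false
set_option linter.unusedSectionVars false
set_option linter.style.haveILetI false

namespace H42.OF

open Subgroup H69 H68.Push H59.MP H68B Cfsg
open H57.OF (OddFix isSolvable_of_prime)
open H2 (subAut quotAut)

universe u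

local notation "𝐕(" T ")" => omegaOneCenter 2 T

variable {A : Type*} [Group A] [Finite A] {G : Type u} [Group G] [Finite G] {φ : A →* MulAut G}

theorem le_core [Group.IsSolvable G] (h : OddFix φ) (hA : (Nat.card A).Prime)
    (ho : Odd (Nat.card A)) (cop : (Nat.card A).Coprime (Nat.card G)) {T : Subgroup G}
    (hT : IsSylowIn 2 T ⊤) : pPrimePCore 2 G = pPrimeCore 2 G ⊔ T := by
  haveI : (pPrimePCore 2 G).Normal := by unfold pPrimePCore; infer_instance
  refine le_antisymm ?_ (sup_le (fun x hx => ?_) ?_)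
  · have h1 := (hT.map (QuotientGroup.mk' (pPrimeCore 2 G))).pCoreOf_le
    rw [map_top_of_surjective _ (QuotientGroup.mk'_surjective _), H70.pCoreOf_top] at h1
    refine (comap_mono h1).trans ?_
    rw [comap_map_eq, QuotientGroup.ker_mk', sup_comm]
  · show QuotientGroup.mk' _ x ∈ pCore 2 _
    rw [QuotientGroup.mk'_apply, (QuotientGroup.eq_one_iff x).2 hx]
    exact one_mem _
  · rw [← QuotientGroup.ker_mk' (pPrimePCore 2 G), ← Subgroup.map_eq_bot_iff]
    exact eq_bot_of_not_dvd (hT.isP.map _) le_top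
      (card_top (G := G ⧸ pPrimePCore 2 G) ▸ h.not_two_dvd_index hA ho cop)

theorem loc (h : OddFix φ) (hA : (Nat.card A).Prime) (ho : Odd (Nat.card A))
    (cop : (Nat.card A).Coprime (Nat.card G)) {S N : Subgroup G} (hS : IsSylowIn 2 S ⊤)
    (hSN : S ≤ N) (hN : ∀ a, ∀ x ∈ N, φ a x ∈ N) (hs : Group.IsSolvable N) :
    ∃ O : Subgroup G, ¬ 2 ∣ Nat.card O ∧ O ≤ N ∧ N ≤ 𝐍(O) ∧ N ≤ 𝐍(O ⊔ S) ∧
      ∀ g ∈ N, ∃ k ∈ O ⊔ S, ∀ a, φ a (g * k) = g * k := by
  have cop' := cop.coprime_dvd_right N.card_subgroup_dvd_card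
  have e := congrArg (Subgroup.map N.subtype)
    (le_core (h.sub N hN) hA ho cop' (hS.mono hSN le_top).subgroupOf_top)
  rw [Subgroup.map_sup, map_subgroupOf_eq_of_le hSN] at e
  refine ⟨(pPrimeCore 2 N).map N.subtype, card_map_subtype (pPrimeCore 2 N) ▸
    H1.not_dvd_card_pPrimeCore, map_subtype_le _, normal_iff_le_normalizer_map.1 inferInstance,
    e ▸ normal_iff_le_normalizer_map.1 (by unfold pPrimePCore; infer_instance), fun g hg => ?_⟩
  obtain ⟨k, hk, h1⟩ := (h.sub N hN).exists_mul hA ho cop' ⟨g, hg⟩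
  exact ⟨k, e ▸ mem_map_of_mem _ hk, fun a => congrArg Subtype.val (h1 a)⟩

theorem dat (h : OddFix φ) (hA : (Nat.card A).Prime) (ho : Odd (Nat.card A))
    (cop : (Nat.card A).Coprime (Nat.card G)) {S : Subgroup G} (hS : IsSylowIn 2 S ⊤)
    (hi : ∀ a, ∀ x ∈ S, φ a x ∈ S) (hs : ∀ X ≤ S, X ≠ ⊥ → (∀ a, ∀ x ∈ 𝐍(X), φ a x ∈ 𝐍(X)) →
      Group.IsSolvable 𝐍(X)) {a : A} (ha : a ≠ 1) : Dat (Nat.card A) S (φ a) := by
  haveI := Fact.mk hA
  have gen : ∀ p : MulAut G → Prop, p 1 → (∀ b, p b → p (φ a * b)) → ∀ b, p (φ b) :=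
    fun p p1 p2 b => by
    obtain ⟨k, rfl⟩ := mem_powers_iff_mem_zpowers.2 (mem_zpowers_of_prime_card rfl ha (g' := b))
    induction k with
    | zero => simpa using p1
    | succ k ih => simpa [pow_succ'] using p2 _ ih
  have key : ∀ X ≤ S, X ≠ ⊥ → S ≤ 𝐍(X) → (∀ x ∈ X, φ a x ∈ X) → ∃ O : Subgroup G,
      (∀ Y : Subgroup G, IsPGroup 2 Y → ∀ o ∈ O, ∀ y ∈ 𝐍(X), y ∈ Y → o * y * o⁻¹ ∈ Y →
        o * y * o⁻¹ = y) ∧ O ≤ 𝐍(X) ∧ S ≤ 𝐍(O) ∧ 𝐍(X) ≤ 𝐍(O ⊔ S) ∧
      ∀ g ∈ 𝐍(X), ∃ k ∈ O ⊔ S, ∀ a, φ a (g * k) = g * k := fun X x1 x2 x3 x4 => by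
    have x5 := gen (fun b => ∀ x ∈ X, b x ∈ X) (fun x hx => hx) fun b hb x hx => x4 _ (hb x hx)
    have x6 : ∀ b, ∀ g ∈ 𝐍(X), φ b g ∈ 𝐍(X) := fun b g hg =>
      H24.mem_normalizer_of_conj_mem fun x hx => by
      simpa using x5 b _ (conj_mem_of_mem_normalizer hg (x5 b⁻¹ x hx))
    obtain ⟨O, o1, o2, o3, o4⟩ := loc h hA ho cop hS x3 x6 (hs X x1 x2 x6)
    refine ⟨O, fun Y hY o h1 y h2 h3 h4 => ?_, o2, x3.trans o3, o4⟩
    have h5 : o * y * o⁻¹ * y⁻¹ ∈ O ⊓ Y := ⟨by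
      simpa [mul_assoc] using mul_mem h1 (conj_mem_of_mem_normalizer (o3 h2) (inv_mem h1)),
      Y.mul_mem h4 (Y.inv_mem h3)⟩
    rwa [eq_bot_of_not_dvd (hY.to_le inf_le_right) inf_le_left o1, mem_bot, mul_inv_eq_one] at h5
  refine ⟨hi a, by rw [← map_pow, pow_card_eq_one', map_one], fun x hx e => ?_,
    fun X x1 x2 x3 x4 g hg => ?_, fun g hg v hv => ?_⟩
  · exact mem_bot.1 (h.inf_eq_bot hS.isP ▸ mem_inf.2 ⟨hx, H2.mem_fixSub_top.2
      (gen (fun b => b x = x) rfl fun b hb => by rw [MulAut.mul_apply, hb, e])⟩)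
  · obtain ⟨O, o1, -, o3, o4, -⟩ := key X x1 x2 x3 x4
    obtain ⟨k, hk, n, hn, rfl⟩ := (hS.mono le_sup_right le_top).frattini (o4 hg)
    obtain ⟨o, ho, t, ht, rfl⟩ := (mem_sup_of_le_normalizer_left o3).1 hk
    have h1 := mul_mem (le_normalizer ht) hn
    refine ⟨_, h1, fun p hp e => ?_⟩
    have h2 := conj_mem_of_mem_normalizer h1 hp
    have h3 : o * t * n * p * (o * t * n)⁻¹ = o * (t * n * p * (t * n)⁻¹) * o⁻¹ := by group
    rw [h3] at e ⊢
    exact o1 S hS.isP o ho _ (x3 h2) h2 e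
  · by_cases e : 𝐕(S) = ⊥
    · simp [mem_bot.1 (e ▸ hv)]
    obtain ⟨O, o1, o2, o3, -, o5⟩ := key _ (oc_le S) e (le_normalizer_oc le_normalizer)
      (inv_oc (hi a))
    obtain ⟨k, hk, h1⟩ := o5 g hg
    have h2 : k ∈ 𝐂(𝐕(S)) := sup_le (fun o ho y hy => (mul_inv_eq_iff_eq_mul.1
      (o1 _ (hS.isP.to_le (oc_le S)) o ho y (le_normalizer hy) hy
        (conj_mem_of_mem_normalizer (o2 ho) hy))).symm) (le_cent_oc S) hk
    have h3 : ∀ v ∈ 𝐕(S), g * v * g⁻¹ = g * k * v * (g * k)⁻¹ := fun v hv => by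
      conv_lhs => rw [← conj_eq_of_mem_centralizer h2 hv]
      group
    rw [h3 v hv, h3 _ (inv_oc (hi a) v hv), map_mul, map_mul _ (g * k), map_inv, h1]

theorem simple [IsSimpleGroup G] (hn : ¬ Group.IsSolvable G) (h : OddFix φ)
    (hA : (Nat.card A).Prime) (ho : Odd (Nat.card A)) (cop : (Nat.card A).Coprime (Nat.card G))
    (ih : ∀ ψ : A →* MulAut G, OddFix ψ → ∀ N : Subgroup G, N ≠ ⊤ → (∀ a, ∀ x ∈ N, ψ a x ∈ N) →
      Group.IsSolvable N) : False := by
  have hs := isSolvable_of_prime hA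
  obtain ⟨P, hP⟩ := H2.ext_exists_invariant_sylow (φ := φ) cop (.inl hs) 2
  have hS := isSylowIn_top P
  haveI : Nontrivial A := Finite.one_lt_card_iff_nontrivial.1 hA.one_lt
  obtain ⟨a, ha⟩ := exists_ne (1 : A)
  have hy : Hy (Nat.card A) G := fun S hS' => by
    obtain ⟨g, -, rfl⟩ := hS.conj hS'
    have h1 : OddFix ((MulAut.conj (MulAut.conj g)).toMonoidHom.comp φ) := fun x hx => by
      have := h ((MulAut.conj g)⁻¹ x) fun a =>
        (MulAut.conj g).injective ((hx a).trans (MulAut.apply_inv_self _ _ x).symm)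
      rwa [MulEquiv.orderOf_eq] at this
    refine ⟨_, dat h1 hA ho cop hS' (fun b x hx => cj_mem g (hP b _ (mem_cj.1 hx)))
      (fun X x1 x2 => ih _ h1 _ fun e => hn ?_) ha⟩
    have h2 := isPGroup_top_iff.1
      ((normalizer_eq_top_iff.1 e).eq_bot_or_eq_top.resolve_left x2 ▸
        hS'.isP.to_le x1)
    haveI := h2.isNilpotent
    infer_instance
  have h2 : 𝐕((P : Subgroup G)) ≠ ⊥ := H24.omegaOne_center_ne_bot hS.isP (hS.dvd_card_iff.1 (by
    by_contra e
    exact hn (Cfsg.Agent.S0205.result (Nat.odd_iff.2 (by rw [card_top] at e; omega)))))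
  have h3 := Gold.gs_top (fun e => hn (H2.isSolvable_of_isMulCommutative e)) _ (oc_ea _) h2
    (sc_of_no_bad (fun S C b => hy.false_of_bad hA ho cop b) hS)
  obtain ⟨⟨t, ht⟩, t1⟩ := ne_bot_iff_exists_ne_one.1 h2
  have t2 : t ≠ 1 := fun e => t1 (Subtype.ext e)
  refine h.not_conj cop hs (orderOf_eq_prime ((oc_ea _).2 t ht) t2) fun b => ?_
  obtain ⟨g, -, -, e⟩ := Gold.type_trans h3 (inv_oc (hP b) t ht) (by simpa using t2) ht t2
  exact isConj_iff.2 ⟨g, e⟩

theorem solvable_aux (hA : (Nat.card A).Prime) (ho : Odd (Nat.card A)) (n : ℕ) :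
    ∀ (H : Type u) [Group H] [Finite H] (φ : A →* MulAut H), Nat.card H = n →
      (Nat.card A).Coprime (Nat.card H) → OddFix φ → Group.IsSolvable H := by
  induction n using Nat.strong_induction_on with
  | _ n ih =>
  intro H _ _ φ hn cop h
  have hs := isSolvable_of_prime hA
  have sub : ∀ ψ : A →* MulAut H, OddFix ψ → ∀ N : Subgroup H, N ≠ ⊤ →
      (∀ a, ∀ x ∈ N, ψ a x ∈ N) → Group.IsSolvable N := fun ψ hψ N h1 h2 =>
    ih _ (hn ▸ H3.card_lt_of_ne_top N h1) N (subAut ψ N h2) rfl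
      (cop.coprime_dvd_right N.card_subgroup_dvd_card) (hψ.sub N h2)
  by_cases hR : solvableRadical H = ⊥
  swap
  · exact H1.isSolvable_of_normal_of_quotient (solvableRadical H) inferInstance
      (ih _ (hn ▸ H3.card_quotient_lt _ hR) _ (quotAut φ _ (H57.OF.char_inv _)) rfl
        (cop.coprime_dvd_right (card_quotient_dvd_card _)) (h.quot cop hs _ _))
  rcases subsingleton_or_nontrivial H with h1 | h1
  · infer_instance
  obtain ⟨L, hL⟩ := H3.exists_isMinNormal H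
  haveI := hL.normal
  have hLs : ¬ Group.IsSolvable L := fun e => hL.ne_bot (le_bot_iff.1 (hR ▸ H1.le_solvableRadical e))
  haveI := Fact.mk hA
  exfalso
  by_cases hi : ∃ a ≠ 1, L ≤ L.comap (φ a).toMonoidHom
  · obtain ⟨a, ha, e⟩ := hi
    have hT : L = ⊤ := by
      by_contra hT
      refine hLs (sub φ h L hT fun b x hx => ?_)
      obtain ⟨k, rfl⟩ := mem_powers_iff_mem_zpowers.2 (mem_zpowers_of_prime_card rfl ha (g' := b))
      induction k with
      | zero => simpa using hx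
      | succ k ih => simpa [pow_succ'] using e ih
    haveI : IsSimpleGroup H := ⟨fun N hN =>
      (hL.eq_bot_or_eq N hN (hT ▸ le_top)).imp_right fun e1 => e1.trans hT⟩
    exact simple (fun e => hLs inferInstance) h hA ho cop sub
  obtain ⟨P, hP⟩ := H2.ext_exists_invariant_sylow (φ := φ) cop (.inl hs) 2
  have hS := isSylowIn_top P
  obtain ⟨⟨t, t0⟩, t3⟩ := ne_bot_iff_exists_ne_one.1 ((hS.inf_normal le_top
    (normal_iff_top_le_normalizer.1 hL.normal)).dvd_card_iff.1 (by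
      by_contra e
      exact hLs (Cfsg.Agent.S0205.result (Nat.odd_iff.2 (by omega)))))
  obtain ⟨t1, t2⟩ := mem_inf.1 t0
  haveI : Nontrivial A := Finite.one_lt_card_iff_nontrivial.1 hA.one_lt
  obtain ⟨a, ha⟩ := exists_ne (1 : A)
  obtain ⟨m, hm⟩ : ∃ m, Nat.card A = m + 1 := ⟨_, (Nat.succ_pred_eq_of_pos hA.pos).symm⟩
  have h2 := congrArg (P : Subgroup H).subtype (MonoidHom.FixedPointFree.prod_pow_eq_one
    (φ := subAut φ P hP a) (fun x hx => Subtype.ext (mem_bot.1 (h.inf_eq_bot hS.isP ▸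
      mem_inf.2 ⟨x.2, H2.mem_fixSub_top.2 fun b => by
        obtain ⟨k, rfl⟩ := mem_powers_iff_mem_zpowers.2 (mem_zpowers_of_prime_card rfl ha (g' := b))
        exact congrArg Subtype.val (show subAut φ P hP (a ^ k) x = x by
          rw [map_pow, ← aut_iter]; exact Function.iterate_fixed hx k)⟩)))
    (n := m + 1) (by ext x; rw [aut_iter, ← map_pow, ← hm, pow_card_eq_one', map_one]; rfl) ⟨t, t1⟩)
  rw [List.range_succ_eq_map, List.map_cons, List.prod_cons, map_mul, map_one,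
    mul_eq_one_iff_eq_inv, map_list_prod] at h2
  have h3 : t ∈ 𝐂(L) := (show t = _ from h2) ▸ inv_mem (list_prod_mem (by
    simp only [List.mem_map, List.mem_range]
    rintro _ ⟨_, ⟨_, ⟨k, hk, rfl⟩, rfl⟩, rfl⟩ y hy
    have h4 : a ^ (k + 1) ≠ 1 := pow_ne_one_of_lt_orderOf (by omega)
      (by rw [orderOf_eq_prime pow_card_eq_one' ha]; omega)
    have h5 := (commute_of_normal_of_disjoint L (L.comap (φ (a ^ (k + 1))).toMonoidHom)
      inferInstance inferInstance (disjoint_iff.2 ((hL.inf_eq_bot_or_le _).resolve_right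
        fun e => hi ⟨_, h4, e⟩)) t ((φ (a ^ (k + 1))).symm y) t2 (by simpa using hy)).map
        (φ (a ^ (k + 1)))
    rw [MulEquiv.apply_symm_apply] at h5
    rw [aut_iter, ← map_pow]
    exact h5.symm.eq))
  rcases hL.inf_eq_bot_or_le 𝐂(L) with e1 | e1
  · exact t3 (Subtype.ext (mem_bot.1 (e1 ▸ mem_inf.2 ⟨t2, h3⟩)))
  · exact hLs (H2.isSolvable_of_isMulCommutative (le_centralizer_iff_isMulCommutative.1 e1))

/-- **Solvability** of groups with a coprime automorphism of odd prime order whose fixed points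
have odd order. -/
theorem solvable (hA : (Nat.card A).Prime) (ho : Odd (Nat.card A))
    (cop : (Nat.card A).Coprime (Nat.card G)) (h : OddFix φ) : Group.IsSolvable G :=
  solvable_aux hA ho _ G φ rfl cop h

end H42.OF
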